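import Cfsg.Agent.H145.BR.CountDefs

/-!
# The number of orbits of `C(P)` on the fixed points of `P`, modulo `p` (helper796, for S4791, S4927)

`P₀ ≤ P` normalised by the `p`-group `P`, `G₀` a subgroup of order prime to `p` which centralises `P` and has the same orbits as
`C(P₀)` on the fixed points of `P₀`: `cnt P X ≡ cnt P₀ X` modulo `p`.
-/

set_option autoImplicit false

open Subgroup

namespace Cfsg.Agent.H796.XZ

open Cfsg Cfsg.Agent.H145.BR

variable {Y : Type*} [Group Y] {X : Type*} [MulAction Y X]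

/-- the fixed points -/
abbrev Fx (P : Subgroup Y) (X : Type*) [MulAction Y X] := {x : X // ∀ g ∈ P, g • x = x}

/-- the orbits of `C(P)` -/
def fxS (P : Subgroup Y) (X : Type*) [MulAction Y X] : Setoid (Fx P X) where
  r x y := ∃ c ∈ centralizer (P : Set Y), c • x.1 = y.1
  iseqv := by
    refine ⟨fun x => ⟨1, one_mem _, one_smul _ _⟩, ?_, ?_⟩
    · rintro x y ⟨c, hc, e⟩
      exact ⟨c⁻¹, inv_mem hc, by rw [← e, inv_smul_smul]⟩
    · rintro x y z ⟨c, hc, e⟩ ⟨d, hd, e'⟩
      exact ⟨d * c, mul_mem hd hc, by rw [mul_smul, e, e']⟩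

theorem cnt_eq (P : Subgroup Y) (X : Type*) [MulAction Y X] : cnt P X = Nat.card (Quotient (fxS P X)) := rfl

theorem conj_mem_centralizer {P₀ : Subgroup Y} {g c : Y} (hg : ∀ x ∈ P₀, g⁻¹ * x * g ∈ P₀)
    (hc : c ∈ centralizer (P₀ : Set Y)) : g * c * g⁻¹ ∈ centralizer (P₀ : Set Y) := by
  rw [mem_centralizer_iff] at hc ⊢
  intro x hx
  have h1 := hc _ (hg x hx)
  calc x * (g * c * g⁻¹) = g * ((g⁻¹ * x * g) * c) * g⁻¹ := by group
    _ = g * (c * (g⁻¹ * x * g)) * g⁻¹ := by rw [h1]
    _ = g * c * g⁻¹ * x := by group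

section

variable {P P₀ G₀ : Subgroup Y} (hn : ∀ g ∈ P, ∀ x ∈ P₀, g⁻¹ * x * g ∈ P₀)

/-- `P` acts on the fixed points of `P₀` -/
def actF (g : P) (x : Fx P₀ X) : Fx P₀ X := ⟨(g : Y) • x.1, fun y hy => by
  have h1 := x.2 _ (hn g g.2 y hy)
  have h2 : y = (g : Y) * ((g : Y)⁻¹ * y * g) * (g : Y)⁻¹ := by group
  rw [h2, mul_smul, mul_smul, inv_smul_smul, h1]⟩

/-- `P` acts on the orbits -/
def actQ (g : P) : Quotient (fxS P₀ X) → Quotient (fxS P₀ X) :=
  Quotient.map (actF hn g) (by
    rintro x y ⟨c, hc, e⟩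
    refine ⟨(g : Y) * c * (g : Y)⁻¹, conj_mem_centralizer (hn g g.2) hc, ?_⟩
    show ((g : Y) * c * (g : Y)⁻¹) • ((g : Y) • x.1) = (g : Y) • y.1
    rw [mul_smul, mul_smul, inv_smul_smul, e])

/-- the action -/
def mulQ : MulAction P (Quotient (fxS P₀ X)) where
  smul g q := actQ hn g q
  one_smul q := by
    induction q using Quotient.inductionOn with
    | _ x =>
      refine congrArg _ (Subtype.ext ?_)
      show ((1 : P) : Y) • x.1 = x.1
      rw [Subgroup.coe_one, one_smul]
  mul_smul a b q := by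
    induction q using Quotient.inductionOn with
    | _ x =>
      refine congrArg _ (Subtype.ext ?_)
      show ((a * b : P) : Y) • x.1 = (a : Y) • (b : Y) • x.1
      rw [Subgroup.coe_mul, mul_smul]

end

/-- **Reduction to `P₀`.** -/
theorem cnt_modEq [Finite X] [Finite Y] {p : ℕ} [hp : Fact p.Prime] {P P₀ G₀ : Subgroup Y} (hP : IsPGroup p P)
    (h0 : P₀ ≤ P) (hn : ∀ g ∈ P, ∀ x ∈ P₀, g⁻¹ * x * g ∈ P₀) (hc : ∀ x ∈ P, ∀ g ∈ G₀, x * g = g * x)
    (hG : ¬ p ∣ Nat.card G₀)
    (hO : ∀ x : X, (∀ g ∈ P₀, g • x = x) → ∀ c ∈ centralizer (P₀ : Set Y), ∃ g ∈ G₀, g • x = c • x) :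
    cnt P X ≡ cnt P₀ X [MOD p] := by
  classical
  letI := mulQ (X := X) hn
  have hGP : ∀ g ∈ G₀, g ∈ centralizer (P : Set Y) := fun g hg => mem_centralizer_iff.2 fun x hx => hc x hx g hg
  have hle : centralizer (P : Set Y) ≤ centralizer (P₀ : Set Y) := centralizer_le (SetLike.coe_subset_coe.2 h0)
  have h1 := hP.card_modEq_card_fixedPoints (Quotient (fxS P₀ X))
  have h2 : cnt P X = Nat.card (MulAction.fixedPoints P (Quotient (fxS P₀ X))) := by
    rw [cnt_eq]
    let φ : Quotient (fxS P X) → MulAction.fixedPoints P (Quotient (fxS P₀ X)) := Quotient.lift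
      (fun x => ⟨Quotient.mk _ ⟨x.1, fun g hg => x.2 g (h0 hg)⟩, fun g => by
        refine congrArg (Quotient.mk _) (Subtype.ext ?_)
        exact x.2 g g.2⟩)
      (by
        rintro x y ⟨c, hc', e⟩
        exact Subtype.ext (Quotient.sound ⟨c, hle hc', e⟩))
    refine Nat.card_congr (Equiv.ofBijective φ ⟨?_, ?_⟩)
    · intro a b
      induction a using Quotient.inductionOn with
      | _ x =>
      induction b using Quotient.inductionOn with
      | _ y =>
        intro e
        have e1 : Quotient.mk (fxS P₀ X) ⟨x.1, fun g hg => x.2 g (h0 hg)⟩ =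
            Quotient.mk (fxS P₀ X) ⟨y.1, fun g hg => y.2 g (h0 hg)⟩ := congrArg Subtype.val e
        obtain ⟨c, hc', e2⟩ := Quotient.exact e1
        obtain ⟨g, hg, e3⟩ := hO x.1 (fun g hg => x.2 g (h0 hg)) c hc'
        exact Quotient.sound ⟨g, hGP g hg, e3.trans e2⟩
    · rintro ⟨q, hq⟩
      induction q using Quotient.inductionOn with
      | _ x =>
        have h3 : ∀ g ∈ P, ∃ g₀ ∈ G₀, g₀ • x.1 = g • x.1 := by
          intro g hg
          have h4 : Quotient.mk (fxS P₀ X) (actF hn ⟨g, hg⟩ x) = Quotient.mk (fxS P₀ X) x := hq ⟨g, hg⟩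
          obtain ⟨c, hc', e⟩ := Quotient.exact h4.symm
          obtain ⟨g₀, hg₀, e'⟩ := hO x.1 x.2 c hc'
          exact ⟨g₀, hg₀, e'.trans e⟩
        -- `P` acts on the orbit of `G₀`
        let O := {y : X // ∃ g ∈ G₀, g • x.1 = y}
        let actO : MulAction P O :=
          { smul := fun a y => ⟨(a : Y) • y.1, by
              obtain ⟨g, hg, e⟩ := y.2
              obtain ⟨g', hg', e'⟩ := h3 a a.2
              exact ⟨g * g', mul_mem hg hg', by rw [mul_smul, e', ← e, ← mul_smul, ← mul_smul, hc a a.2 g hg]⟩⟩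
            one_smul := fun y => Subtype.ext (by
              show ((1 : P) : Y) • y.1 = y.1
              rw [Subgroup.coe_one, one_smul])
            mul_smul := fun a b y => Subtype.ext (by
              show ((a * b : P) : Y) • y.1 = (a : Y) • (b : Y) • y.1
              rw [Subgroup.coe_mul, mul_smul]) }
        have hcard : ¬ p ∣ Nat.card O := by
          have h5 : Nat.card O = Nat.card (MulAction.orbit G₀ x.1) := by
            refine Nat.card_congr (Equiv.subtypeEquivRight fun y => ?_)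
            constructor
            · rintro ⟨g, hg, e⟩
              exact ⟨⟨g, hg⟩, e⟩
            · rintro ⟨g, e⟩
              exact ⟨g, g.2, e⟩
          rw [h5]
          intro h6
          refine hG (h6.trans ?_)
          rw [← MulAction.index_stabilizer (G := G₀) (x := x.1) |>.trans (Nat.card_coe_set_eq _).symm]
          exact Subgroup.index_dvd_card _
        obtain ⟨y, hy⟩ := hP.nonempty_fixed_point_of_prime_not_dvd_card O hcard
        obtain ⟨g, hg, e⟩ := y.2
        refine ⟨Quotient.mk _ ⟨y.1, fun a ha => congrArg Subtype.val (hy ⟨a, ha⟩)⟩, Subtype.ext ?_⟩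
        exact Quotient.sound ⟨g⁻¹, hle (inv_mem (hGP g hg)), by rw [← e, inv_smul_smul]⟩
  rw [h2]
  exact h1.symm

end Cfsg.Agent.H796.XZ
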