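import Cfsg.Agent.H796.BR.FixPar
import Cfsg.Agent.H796.XZ.CntMod

/-!
# The linear primes: the input (helper796, for S4791, S4927)

* `LinData cs h T X p JA JT P P₀` (any type): `P₀ ≤ L_{JA}` normalised by the Sylow subgroup `P ≥ P₀`, in no smaller parabolic
  subgroup, `P` centralises the root subgroups of `JT`, which generate a group of order prime to `p`, and `C(P₀) ≤ L_{JA ∪ JT}`.
* type `B_m`, `m = v + e w`, `v < e` : the coordinates `< e w` form `w` blocks of size `e`;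
  `JA m e w` : the nodes of `(A_{e-1})^w`; `JT m e w` : the nodes of the tail `B_v`.
-/

set_option autoImplicit false
set_option linter.unusedSectionVars false

open Cfsg Subgroup

namespace Cfsg.Agent.H796.XZ

open CoxeterSystem Cfsg.Agent.ChevalleyStructure.CoxeterGeom Cfsg.Agent.Tits.Roots Cfsg.Agent.Tits.Core
  Cfsg.Agent.Tits.Exchange Cfsg.Agent.Nodes.Reps Cfsg.Agent.Nodes.BNOf Cfsg.Agent.Nodes.StabComb
  Cfsg.Agent.Nodes.Bruhat Cfsg.Agent.Nodes.OppDec Cfsg.Agent.Nodes.LeviDec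

/-- type `B_m` : the nodes of `(A_{e-1})^w` -/
def JA (m e w : ℕ) : Set (Fin m) := {k | (k : ℕ) + 1 < e * w ∧ ¬ e ∣ (k : ℕ) + 1}

/-- type `B_m` : the nodes of the tail -/
def JT (m e w : ℕ) : Set (Fin m) := {k | e * w ≤ (k : ℕ)}

variable {B : Type*} [Fintype B] [DecidableEq B] {M : CoxeterMatrix B} {W Y : Type*} [Group W] [Group Y] (cs : CoxeterSystem M W)
  {A : B → B → ℤ} (h : IsCartan M A) (T : Subgroup Y) (X : (B → ℤ) → Subgroup Y)

/-- the input -/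
structure LinData (p : ℕ) (JA JT : Set B) (P : Sylow p Y) (P₀ : Subgroup Y) : Prop where
  le : P₀ ≤ (P : Subgroup Y)
  conj : ∀ g ∈ (P : Subgroup Y), ∀ x ∈ P₀, g⁻¹ * x * g ∈ P₀
  le_LJ : P₀ ≤ LJ cs h T X JA
  ell : ∀ K ⊆ JA, (∃ a ∈ PJ cs h T X JA, ∀ x ∈ P₀, a⁻¹ * x * a ∈ PJ cs h T X K) → K = JA
  comm : ∀ x ∈ (P : Subgroup Y), ∀ g ∈ RGD.Sup X (RootsJ cs h JT), x * g = g * x
  cop : ¬ p ∣ Nat.card ↥(RGD.Sup X (RootsJ cs h JT))
  cen : centralizer (P₀ : Set Y) ≤ LJ cs h T X (JA ∪ JT)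

end Cfsg.Agent.H796.XZ
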