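import Cfsg.Agent.H796.XZ.LinDefs
import Cfsg.Agent.H53.HC.Prod

/-!
# The linear primes: the orbits (helper796, for S4791, S4927)

`LinData cs h T X p JA JT P P₀`, `JA` and `JT` orthogonal. The number of the orbits of `C(P)` on the fixed points of the Sylow
subgroup `P` on `Y / P_K` is congruent modulo `p` to the number of the double cosets of `W_{JA ∪ JT}` and `W_K` on the elements
`w` with `Into cs h JA K w` (any type).
-/

set_option autoImplicit false
set_option linter.unusedSectionVars false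

open Cfsg Subgroup

namespace Cfsg.Agent.H796.XZ

open CoxeterSystem Cfsg.Agent.ChevalleyStructure.CoxeterGeom Cfsg.Agent.Tits.Roots Cfsg.Agent.Tits.Core
  Cfsg.Agent.Tits.Exchange Cfsg.Agent.Nodes.Reps Cfsg.Agent.Nodes.BNOf Cfsg.Agent.Nodes.StabComb
  Cfsg.Agent.Nodes.Bruhat Cfsg.Agent.Nodes.OppDec Cfsg.Agent.Nodes.LeviDec Cfsg.Agent.H53.HC
  Cfsg.Agent.H145.BR Cfsg.Agent.H796.BR

/-- the classes of a relation given by a surjective function -/
theorem card_quot_of {α β : Type*} {r : α → α → Prop} {f : α → β} (hf : Function.Surjective f)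
    (h : ∀ a b, f a = f b ↔ r a b) : Nat.card (Quot r) = Nat.card β := by
  refine Nat.card_congr (Equiv.ofBijective (Quot.lift f fun a b hab => (h a b).2 hab) ⟨?_, fun b => ?_⟩)
  · intro a b
    induction a using Quot.inductionOn with
    | _ x =>
    induction b using Quot.inductionOn with
    | _ y => exact fun e => Quot.sound ((h x y).1 e)
  · obtain ⟨a, rfl⟩ := hf b
    exact ⟨Quot.mk _ a, rfl⟩

variable {I W Y : Type*} [Fintype I] [DecidableEq I] [Group W] [Group Y] {M : CoxeterMatrix I}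
  {cs : CoxeterSystem M W} {A : I → I → ℤ} {h : IsCartan M A} {r : ℕ} {T : Subgroup Y} {n : I → Y}
  {X : (I → ℤ) → Subgroup Y} (R : RGD cs h r T n X)

section

include R

/-- the product of a cell of `W_J` and of the cell of `w` -/
theorem cell_mul_left {J : Set I} {u w : W} {a b : Y} (hu : u ∈ WJ cs J) (ha : Cell R.nsys cs h X u a)
    (hb : Cell R.nsys cs h X w b) : ∃ u' ∈ WJ cs J, Cell R.nsys cs h X (u' * w) (a * b) := by
  obtain ⟨ω, hω, rfl⟩ := exists_word_of_mem_WJ cs hu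
  clear hu
  induction ω generalizing a with
  | nil =>
    rw [wordProd_nil] at ha
    exact ⟨1, one_mem _, by rw [one_mul]; exact hb.mul_left ha.mem_of_one⟩
  | cons i ω ih =>
    have hω' : ∀ j ∈ ω, j ∈ J := fun j hj => hω j (by simp [hj])
    rw [wordProd_cons] at ha
    obtain ⟨a₁, ha₁, k, hk, a₂, ha₂, rfl⟩ := ha
    have hk2 : Rp cs R.nsys (cs.wordProd ω) ((n i)⁻¹ * k) := by
      have := (rp_simple cs R.nsys i).inv.mul hk
      rwa [inv_mul_cancel_left] at this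
    obtain ⟨u', hu', h1⟩ := ih hω' ((cell_of_rp hk2).mul_right ha₂)
    have h2 : Cell R.nsys cs h X (cs.simple i) (a₁ * n i) := (cell_of_rp (rp_simple cs R.nsys i)).mul_left ha₁
    have e : a₁ * k * a₂ * b = (a₁ * n i) * ((n i)⁻¹ * k * a₂ * b) := by group
    rw [e]
    rcases Cell.simple_mul R h2 h1 with h3 | ⟨-, h3⟩
    · exact ⟨cs.simple i * u', mul_mem (simple_mem_WJ cs (hω i (by simp))) hu', by rw [mul_assoc]; exact h3⟩
    · exact ⟨u', hu', h3⟩

/-- the product of the cell of `w` and of a cell of `W_J` -/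
theorem cell_mul_right {J : Set I} {u w : W} {a b : Y} (hu : u ∈ WJ cs J) (ha : Cell R.nsys cs h X w a)
    (hb : Cell R.nsys cs h X u b) : ∃ u' ∈ WJ cs J, Cell R.nsys cs h X (w * u') (a * b) := by
  obtain ⟨u', hu', h1⟩ := cell_mul_left R (inv_mem hu) hb.inv ha.inv
  refine ⟨u'⁻¹, inv_mem hu', ?_⟩
  have h2 := h1.inv
  have e1 : (u' * w⁻¹)⁻¹ = w * u'⁻¹ := by group
  have e2 : (b⁻¹ * a⁻¹)⁻¹ = a * b := by group
  rwa [e1, e2] at h2

/-- **The double cosets of parabolic subgroups.** -/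
theorem mem_double [Finite W] {J K : Set I} {w w' : W} {k k' c b : Y} (hk : Rp cs R.nsys w k) (hk' : Rp cs R.nsys w' k')
    (hc : c ∈ PJ cs h T X J) (hb : b ∈ PJ cs h T X K) (e : k' = c * k * b) :
    ∃ u ∈ WJ cs J, ∃ v ∈ WJ cs K, w' = u * w * v := by
  obtain ⟨u, hu, h1⟩ := (mem_PJ_iff_cell R).1 hc
  obtain ⟨v, hv, h2⟩ := (mem_PJ_iff_cell R).1 hb
  obtain ⟨u', hu', h3⟩ := cell_mul_left R hu h1 (cell_of_rp hk)
  obtain ⟨v', hv', h4⟩ := cell_mul_right R hv h3 h2
  refine ⟨u', hu', v', hv', ?_⟩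
  rw [← e] at h4
  exact Cell.unique R (cell_of_rp hk') h4

/-- the Levi subgroup of the union of orthogonal sets of nodes -/
theorem exists_mul_LJ [Finite W] {JA JT : Set I} (ho : Orth A JA JT) {c : Y} (hc : c ∈ LJ cs h T X (JA ∪ JT)) :
    ∃ g ∈ RGD.Sup X (RootsJ cs h JT), ∃ l ∈ LJ cs h T X JA, c = g * l := by
  have hle : LJ cs h T X JA ≤ Subgroup.normalizer (RGD.Sup X (RootsJ cs h JT) : Set Y) := by
    refine sup_le (R.T_le_normalizer fun x hx => hx.1) ?_
    intro a ha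
    rw [Subgroup.mem_normalizer_iff]
    intro b
    have hcm := ho.comm R a ha
    have hcm' := ho.comm R a⁻¹ (inv_mem ha)
    constructor
    · intro hb
      rw [hcm b hb, mul_inv_cancel_right]
      exact hb
    · intro hb
      have h1 := hcm' _ hb
      have e : b = a⁻¹ * (a * b * a⁻¹) * a := by group
      rw [e, h1, inv_mul_cancel_right]
      exact hb
  have h1 : c ∈ LJ cs h T X JA ⊔ RGD.Sup X (RootsJ cs h JT) := by
    refine (sup_le (le_trans T_le_LJ le_sup_left) (RGD.Sup_le fun x hx => ?_) : LJ cs h T X (JA ∪ JT) ≤ _) hc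
    rcases ho.roots hx with hx | hx
    · exact le_trans (X_le_LJ hx) le_sup_left
    · exact le_trans (RGD.le_Sup hx) le_sup_right
  rw [sup_comm] at h1
  have h2 : c ∈ ((RGD.Sup X (RootsJ cs h JT) ⊔ LJ cs h T X JA : Subgroup Y) : Set Y) := h1
  rw [Subgroup.coe_mul_of_right_le_normalizer_left _ _ hle] at h2
  obtain ⟨g, hg, l, hl, rfl⟩ := h2
  exact ⟨g, hg, l, hl, rfl⟩

/-- `L_{JA}` fixes the cosets over `w` -/
theorem smul_coset {JA K : Set I} {w : W} (hw : Into cs h JA K w) {k : Y} (hk : Rp cs R.nsys w k) {l : Y}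
    (hl : l ∈ LJ cs h T X JA) : l • ((k : Y) : Y ⧸ PJ cs h T X K) = (k : Y ⧸ PJ cs h T X K) := by
  have h1 := LJ_le_PJ (mem_cj.1 (hw.LJ_le R hk hl))
  rw [MulAction.Quotient.smul_coe, smul_eq_mul]
  refine (QuotientGroup.eq.2 ?_).symm
  have e : k⁻¹ * (l * k) = k⁻¹ * l * k := by group
  rw [e]
  exact h1

end

/-- the relation of the double cosets -/
def DC (cs : CoxeterSystem M W) (h : IsCartan M A) (JA JT K : Set I) (a b : {w : W // Into cs h JA K w}) : Prop :=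
  ∃ u ∈ WJ cs (JA ∪ JT), ∃ v ∈ WJ cs K, b.1 = u * a.1 * v

variable {p : ℕ} {JA JT : Set I} {P : Sylow p Y} {P₀ : Subgroup Y}

include R

/-- the fixed points of `P₀` -/
theorem LinData.exists_fix [Finite W] [Finite Y] [Fact r.Prime] (hG : GG cs h T X = ⊤) [hp : Fact p.Prime] (hpr : p ≠ r)
    (D : LinData cs h T X p JA JT P P₀) {K : Set I} {x : Y ⧸ PJ cs h T X K} (hx : ∀ g ∈ P₀, g • x = x) :
    ∃ c ∈ centralizer (P₀ : Set Y), ∃ w k, Rp cs R.nsys w k ∧ Into cs h JA K w ∧ x = c • (k : Y ⧸ PJ cs h T X K) := by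
  obtain ⟨g, rfl⟩ := QuotientGroup.mk_surjective x
  have h1 : ∀ x ∈ P₀, g⁻¹ * x * g ∈ PJ cs h T X K := by
    intro x hx'
    have h2 := hx x hx'
    rw [MulAction.Quotient.smul_coe, smul_eq_mul] at h2
    have h3 := QuotientGroup.eq.1 h2.symm
    have e : g⁻¹ * (x * g) = g⁻¹ * x * g := by group
    rwa [e] at h3
  obtain ⟨c, -, hc, w, k, hk, hw, b, hb, e⟩ := exists_orbit R hG hpr (P.isPGroup'.to_le D.le) D.le_LJ D.ell h1
  refine ⟨c, mem_centralizer_iff.2 fun x hx' => hc x hx', w, k, hk, hw, ?_⟩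
  rw [MulAction.Quotient.smul_coe, smul_eq_mul]
  refine QuotientGroup.eq.2 ?_
  have e1 : g⁻¹ * (c * k) = b⁻¹ := by rw [e]; group
  rw [e1]
  exact inv_mem hb

/-- the centralizer of `P₀` acts on the fixed points as the root subgroups of `JT` do -/
theorem LinData.orb [Finite W] [Finite Y] [Fact r.Prime] (hG : GG cs h T X = ⊤) [hp : Fact p.Prime] (hpr : p ≠ r)
    (ho : Orth A JA JT) (D : LinData cs h T X p JA JT P P₀) {K : Set I} {x : Y ⧸ PJ cs h T X K}
    (hx : ∀ g ∈ P₀, g • x = x) {c : Y} (hc : c ∈ centralizer (P₀ : Set Y)) :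
    ∃ g ∈ RGD.Sup X (RootsJ cs h JT), g • x = c • x := by
  obtain ⟨c₀, hc₀, w, k, hk, hw, rfl⟩ := D.exists_fix R hG hpr hx
  obtain ⟨g₀, hg₀, l₀, hl₀, e₀⟩ := exists_mul_LJ R ho (D.cen hc₀)
  obtain ⟨g₁, hg₁, l₁, hl₁, e₁⟩ := exists_mul_LJ R ho (D.cen (mul_mem hc hc₀))
  refine ⟨g₁ * g₀⁻¹, mul_mem hg₁ (inv_mem hg₀), ?_⟩
  rw [← mul_smul c, e₁, mul_smul g₁ l₁, smul_coset R hw hk hl₁, e₀, mul_smul g₀ l₀, smul_coset R hw hk hl₀,
    mul_smul, inv_smul_smul]

/-- **The fixed points of `P₀`.** -/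
theorem LinData.cnt_eq_card [Finite W] [Finite Y] [Fact r.Prime] (hG : GG cs h T X = ⊤) [hp : Fact p.Prime] (hpr : p ≠ r)
    (ho : Orth A JA JT) (D : LinData cs h T X p JA JT P P₀) (K : Set I) :
    cnt P₀ (Y ⧸ PJ cs h T X K) = Nat.card (Quot (DC cs h JA JT K)) := by
  classical
  choose k hk using fun w : W => exists_rp cs R.nsys w
  have hfix : ∀ a : {w : W // Into cs h JA K w}, ∀ g ∈ P₀,
      g • ((k a.1 : Y) : Y ⧸ PJ cs h T X K) = (k a.1 : Y ⧸ PJ cs h T X K) :=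
    fun a g hg => smul_coset R a.2 (hk a.1) (D.le_LJ hg)
  rw [cnt_eq]
  symm
  refine card_quot_of (f := fun a => Quotient.mk (fxS P₀ (Y ⧸ PJ cs h T X K))
    ⟨((k a.1 : Y) : Y ⧸ PJ cs h T X K), hfix a⟩) ?_ ?_
  · intro q
    induction q using Quotient.inductionOn with
    | _ x =>
      obtain ⟨c, hc, w, k', hk', hw, e⟩ := D.exists_fix R hG hpr x.2
      refine ⟨⟨w, hw⟩, Quotient.sound ⟨c, hc, ?_⟩⟩
      rw [e]
      congr 1
      refine QuotientGroup.eq.2 ?_
      exact B_le_PJ (RGD.T_le_B ((hk w).unique hk'))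
  · intro a b
    constructor
    · intro e
      obtain ⟨c, hc, e1⟩ := Quotient.exact e
      have e2 : c • ((k a.1 : Y) : Y ⧸ PJ cs h T X K) = (k b.1 : Y ⧸ PJ cs h T X K) := e1
      rw [MulAction.Quotient.smul_coe, smul_eq_mul] at e2
      have h3 := QuotientGroup.eq.1 e2
      exact mem_double R (hk a.1) (hk b.1) (LJ_le_PJ (D.cen hc)) h3 (by group)
    · rintro ⟨u, hu, v, hv, e⟩
      obtain ⟨g, hg, l, hl, e1⟩ := exists_mul_LJ R ho (rp_mem_LJ R hu (hk u))
      refine Quotient.sound ⟨g, mem_centralizer_iff.2 fun x hx => D.comm x (D.le hx) g hg, ?_⟩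
      show g • ((k a.1 : Y) : Y ⧸ PJ cs h T X K) = (k b.1 : Y ⧸ PJ cs h T X K)
      have h1 : g • ((k a.1 : Y) : Y ⧸ PJ cs h T X K) = k u • ((k a.1 : Y) : Y ⧸ PJ cs h T X K) := by
        rw [e1, mul_smul, smul_coset R a.2 (hk a.1) hl]
      rw [h1, MulAction.Quotient.smul_coe, smul_eq_mul]
      refine QuotientGroup.eq.2 ?_
      have h2 : Rp cs R.nsys b.1 (k u * k a.1 * k v) := by
        rw [e]
        exact ((hk u).mul (hk a.1)).mul (hk v)
      have h3 := h2.unique (hk b.1)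
      have e3 : (k u * k a.1)⁻¹ * k b.1 = k v * ((k u * k a.1 * k v)⁻¹ * k b.1) := by group
      rw [e3]
      exact mul_mem (LJ_le_PJ (rp_mem_LJ R hv (hk v))) (B_le_PJ (RGD.T_le_B h3))

/-- **The number of the orbits, modulo `p`.** -/
theorem LinData.cnt_modEq [Finite W] [Finite Y] [Fact r.Prime] (hG : GG cs h T X = ⊤) [hp : Fact p.Prime] (hpr : p ≠ r)
    (ho : Orth A JA JT) (D : LinData cs h T X p JA JT P P₀) (K : Set I) :
    cnt (P : Subgroup Y) (Y ⧸ PJ cs h T X K) ≡ Nat.card (Quot (DC cs h JA JT K)) [MOD p] := by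
  rw [← D.cnt_eq_card R hG hpr ho K]
  exact XZ.cnt_modEq P.isPGroup' D.le D.conj D.comm D.cop fun x hx c hc => D.orb R hG hpr ho hx hc

end Cfsg.Agent.H796.XZ
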